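import Groth.Agent.H98PicRel.BaseChange
import Groth.Agent.FGA29.IntNumBasic
import Groth.Agent.Props58.PullTensor
import Groth.Prelude.Def_AbDual

/-!
Classes of invertible modules: pullback is multiplicative, and classes algebraically equivalent to zero on
the geometric fibres are stable under base change.
-/

set_option autoImplicit false
set_option backward.isDefEq.respectTransparency.types false
set_option linter.style.haveILetI false

noncomputable section

universe u

open CategoryTheory CategoryTheory.Limits AlgebraicGeometry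
open Groth.Agent.FGA29

namespace Groth.Agent.SymPhi99

section Cl

variable {X Y : Scheme.{u}}

theorem pullCl_cl (g : X ⟶ Y) (L : Y.Modules) :
    PicF.pullCl g (PicF.cl L) = PicF.cl ((Scheme.Modules.pullback g).obj L) := rfl

theorem cl_iso {L M : X.Modules} (h : Nonempty (L ≅ M)) : PicF.cl L = PicF.cl M := Quot.sound h

theorem pullCl_congr {g g' : X ⟶ Y} (h : g = g') (c : PicF.Cl Y) :
    PicF.pullCl g c = PicF.pullCl g' c := by rw [h]

theorem pullCl_one (g : X ⟶ Y) : PicF.pullCl g (1 : PicF.Cl Y) = 1 :=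
  cl_iso ⟨PicLoc.pullbackStructureIso g⟩

theorem pullCl_id (c : PicF.Cl X) : PicF.pullCl (𝟙 X) c = c :=
  Quot.inductionOn c fun L => cl_iso ⟨(Scheme.Modules.pullbackId X).app L⟩

theorem isInvertibleCl_mul {a b : PicF.Cl X} (ha : PicF.IsInvertibleCl a) (hb : PicF.IsInvertibleCl b) :
    PicF.IsInvertibleCl (a * b) := by
  obtain ⟨L, rfl, hL⟩ := ha
  obtain ⟨M, rfl, hM⟩ := hb
  exact ⟨CohB1.tensorMod L M, rfl, EGA73.isInvertible_tensorMod hL hM⟩

theorem pullCl_mul (g : X ⟶ Y) {a b : PicF.Cl Y} (ha : PicF.IsInvertibleCl a) (hb : PicF.IsInvertibleCl b) :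
    PicF.pullCl g (a * b) = PicF.pullCl g a * PicF.pullCl g b := by
  obtain ⟨L, rfl, hL⟩ := ha
  obtain ⟨M, rfl, hM⟩ := hb
  exact cl_iso (Props58.PullTensor.nonempty_pullTensIso (f := g) hL hM)

end Cl

section AlgEquiv

variable (k : Type u) [Field k]

/-- Pullbacks of modules algebraically equivalent to zero are algebraically equivalent to zero. -/
theorem isAlgEquivZero_pullback {X X' : Scheme.{u}} (p : X ⟶ Spec (CommRingCat.of k))
    (p' : X' ⟶ Spec (CommRingCat.of k)) (h : X' ⟶ X) (hh : h ≫ p = p') {L : X.Modules} {L' : X'.Modules}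
    (e : Nonempty ((Scheme.Modules.pullback h).obj L ≅ L'))
    (hL : @Pic13.IsAlgEquivZero k _ X ⟨p⟩ L) : @Pic13.IsAlgEquivZero k _ X' ⟨p'⟩ L' := by
  letI : X.Over (Spec (CommRingCat.of k)) := ⟨p⟩
  letI : X'.Over (Spec (CommRingCat.of k)) := ⟨p'⟩
  obtain ⟨T, q, hc, hlft, hqc, M, hM, t, t₀, ht, ht₀, ⟨et⟩, ⟨et₀⟩⟩ := hL
  obtain ⟨e⟩ := e
  let g : Pic13.prodK k X' q ⟶ Pic13.prodK k X q :=
    pullback.map _ q _ q h (𝟙 T) (𝟙 _) (by rw [Category.comp_id]; exact hh.symm) (by simp)
  have hs : ∀ (s : Spec (CommRingCat.of k) ⟶ T) (hs : s ≫ q = 𝟙 _),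
      Pic13.sliceAt k X' q s hs ≫ g = h ≫ Pic13.sliceAt k X q s hs := by
    intro s hs
    refine pullback.hom_ext ?_ ?_
    · simp only [g, Pic13.sliceAt, Category.assoc, pullback.lift_fst, pullback.lift_fst_assoc,
        Category.id_comp, Category.comp_id]
    · simp only [g, Pic13.sliceAt, Category.assoc, pullback.lift_snd, pullback.lift_snd_assoc,
        Category.comp_id]
      rw [← Category.assoc h]
      exact congrArg (· ≫ s) hh.symm
  let tr : ∀ (s : Spec (CommRingCat.of k) ⟶ T) (hs' : s ≫ q = 𝟙 _),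
      Pic13.fibreMod k X' q s hs' ((Scheme.Modules.pullback g).obj M) ≅
        (Scheme.Modules.pullback h).obj (Pic13.fibreMod k X q s hs' M) := fun s hs' =>
    (Scheme.Modules.pullbackComp _ _).app M ≪≫ (Scheme.Modules.pullbackCongr (hs s hs')).app M ≪≫
      ((Scheme.Modules.pullbackComp _ _).app M).symm
  exact ⟨T, q, hc, hlft, hqc, (Scheme.Modules.pullback g).obj M, Amp73.isInvertible_pullback g hM, t, t₀, ht, ht₀,
    ⟨tr t ht ≪≫ (Scheme.Modules.pullback h).mapIso et ≪≫ e⟩,
    ⟨tr t₀ ht₀ ≪≫ (Scheme.Modules.pullback h).mapIso et₀ ≪≫ PicLoc.pullbackStructureIso h⟩⟩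

end AlgEquiv

variable {X S : Scheme.{u}} (f : X ⟶ S)

theorem isInvertibleCl_of_picZero {T : Over S} {c : PicF.Cl (PicF.XT f T)}
    (h : AbDual.IsPicZeroCl f T c) : PicF.IsInvertibleCl c := by
  obtain ⟨L, hc, hL, -⟩ := h
  exact ⟨L, hc, hL⟩

/-- Classes algebraically equivalent to zero on geometric fibres are stable under base change. -/
theorem isPicZeroCl_pullCl {T T' : Over S} (g : T' ⟶ T) {c : PicF.Cl (PicF.XT f T)}
    (h : AbDual.IsPicZeroCl f T c) : AbDual.IsPicZeroCl f T' (PicF.pullCl (PicF.XTmap f g) c) := by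
  obtain ⟨L, rfl, hL, hz⟩ := h
  refine ⟨_, rfl, Amp73.isInvertible_pullback _ hL, fun t Ω _ _ σ hσ => ?_⟩
  have hr : Set.range (σ ≫ g.left).base = {g.left t} := by
    rw [Scheme.Hom.comp_base, TopCat.coe_comp, Set.range_comp, hσ, Set.image_singleton]
  let h : pullback (PicF.XTproj f T') σ ⟶ pullback (PicF.XTproj f T) (σ ≫ g.left) :=
    pullback.lift (pullback.fst _ σ ≫ PicF.XTmap f g) (pullback.snd _ σ) (by
      rw [Category.assoc, show PicF.XTmap f g ≫ PicF.XTproj f T = PicF.XTproj f T' ≫ g.left from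
        H98PicRel.XTmap_snd f g, reassoc_of% pullback.condition])
  refine isAlgEquivZero_pullback Ω (pullback.snd (PicF.XTproj f T) (σ ≫ g.left)) _ h (pullback.lift_snd _ _ _)
    ⟨?_⟩ (hz (g.left t) Ω (σ ≫ g.left) hr)
  exact (Scheme.Modules.pullbackComp _ _).app L ≪≫ (Scheme.Modules.pullbackCongr (pullback.lift_fst _ _ _)).app L ≪≫
    ((Scheme.Modules.pullbackComp _ _).app L).symm

end Groth.Agent.SymPhi99
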