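import Groth.Agent.Desc59.EtAssocSheaf
import Groth.Agent.Cube73.Glue
import Mathlib.AlgebraicGeometry.Cover.QuasiCompact
import Mathlib.AlgebraicGeometry.Morphisms.UniversallyOpen
import Mathlib.AlgebraicGeometry.Sites.Fpqc

/-!
An invertible module rigidified along a section which becomes trivial after an fppf base change is
trivial, when only functions from the base are functions upstairs, universally.
-/

set_option autoImplicit false
set_option backward.isDefEq.respectTransparency false
set_option backward.isDefEq.respectTransparency.types false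
set_option linter.style.haveILetI false

noncomputable section

universe u

open CategoryTheory CategoryTheory.Limits AlgebraicGeometry TopologicalSpace
open Groth.Agent.Var76

namespace Groth.Agent.SymPhi99

open Desc59

/-- Transition maps carry frames to frames. -/
theorem isFrame_tr {X Y Z : Scheme.{u}} {f : Y ⟶ X} {a : Z ⟶ Y} {h : Z ⟶ X} (e : a ≫ f = h) {G : X.Modules}
    (hG : PicF.IsInvertible G) {V : Y.Opens} {W : Z.Opens} (hW : W ≤ a ⁻¹ᵁ V)
    {y : Γ((Scheme.Modules.pullback f).obj G, V)} (hy : LineBundle.IsFrame _ V y) :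
    LineBundle.IsFrame _ W (QSheaf.tr e G hW y) := by
  have h1 : LineBundle.IsFrame _ W (QCPull72.unitSec a ((Scheme.Modules.pullback f).obj G) hW y) :=
    (Amp73.isFrame_pullS a (Amp73.isInvertible_pullback f hG) hy).res hW
  exact (Amp73.isFrame_app_iff ((LimTop61.pullbackCompIso f a e).hom.app G) _).2 h1

theorem lres_self {X : Scheme.{u}} {M : X.Modules} {V : X.Opens} (h : V ≤ V) (e : Γ(M, V)) :
    LineBundle.res M h e = e := QC70.res_self e

variable {P T : Scheme.{u}} (f : P ⟶ T)

/-- An invertible module trivial along a section is trivial if it is so after an fppf base change. -/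
theorem trivial_of_rigidified_fppf (σ : T ⟶ P) (hσ : σ ≫ f = 𝟙 T)
    (hbij : ∀ (W : Scheme.{u}) (w : W ⟶ T), Function.Bijective (pullback.snd f w).appTop)
    (N : P.Modules) (hN : PicF.IsInvertible N)
    (hσN : Nonempty ((Scheme.Modules.pullback σ).obj N ≅ Coh.structureModule T))
    (hcov : ∀ t : T, ∃ (U : Scheme.{u}) (v : U ⟶ T), Flat v ∧ LocallyOfFinitePresentation v ∧
      t ∈ Set.range v.base ∧
      Nonempty ((Scheme.Modules.pullback (pullback.fst f v)).obj N ≅ Coh.structureModule (pullback f v))) :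
    Nonempty (N ≅ Coh.structureModule P) := by
  haveI : N.IsQuasicoherent := Mero90.isQCoh_of_isInvertible hN
  choose U v hfl hlfp hv hiso using hcov
  let Q : T → Scheme.{u} := fun t => pullback f (v t)
  let g : ∀ t, Q t ⟶ P := fun t => pullback.fst f (v t)
  haveI : ∀ t, Flat (g t) := fun t => by
    haveI := hfl t
    exact MorphismProperty.pullback_fst (P := @Flat) _ _ inferInstance
  have hopen : ∀ t, IsOpenMap (g t).base := fun t => by
    haveI := hlfp t
    haveI : LocallyOfFinitePresentation (g t) :=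
      MorphismProperty.pullback_fst (P := @LocallyOfFinitePresentation) _ _ inferInstance
    exact (g t).isOpenMap
  have hsurj : ∀ p : P, ∃ t q, g t q = p := fun p => by
    obtain ⟨u, hu⟩ := hv (f p)
    obtain ⟨q, hq, -⟩ := Scheme.Pullback.exists_preimage_pullback (f := f) (g := v (f p)) p u hu.symm
    exact ⟨f p, q, hq⟩
  haveI : QuasiCompactCover (⟨T, Q, g⟩ : PreZeroHypercover.{u} P) :=
    ⟨fun {O} hO => .of_isOpenMap (fun t => (g t).continuous) hopen
      (fun x _ => by obtain ⟨t, q, hq⟩ := hsurj x; exact ⟨t, q, hq⟩) O.2 hO.isCompact⟩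
  obtain ⟨eσ, heσ⟩ := Cube73.exists_frame_of_iso hσN.some
  choose e he using fun t => Cube73.exists_frame_of_iso (hiso t).some
  -- the sections of the covering pieces
  let s : ∀ t, U t ⟶ Q t := fun t => pullback.lift (v t ≫ σ) (𝟙 _) (by
    rw [Category.assoc, hσ, Category.comp_id, Category.id_comp])
  have hs1 : ∀ t, s t ≫ g t = v t ≫ σ := fun t => pullback.lift_fst _ _ _
  have hs2 : ∀ t, s t ≫ pullback.snd f (v t) = 𝟙 (U t) := fun t => pullback.lift_snd _ _ _
  let tgt : ∀ t, Γ((Scheme.Modules.pullback (v t ≫ σ)).obj N, ⊤) := fun t =>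
    QSheaf.tr (rfl : v t ≫ σ = v t ≫ σ) N (le_refl ⊤) eσ
  have htgt : ∀ t, LineBundle.IsFrame _ ⊤ (tgt t) := fun t => isFrame_tr _ hN _ heσ
  choose c hc using fun t => (htgt t ⊤ le_rfl).2 (QSheaf.tr (hs1 t) N (le_refl ⊤) (e t))
  simp only [lres_self] at hc
  have hcu : ∀ t, IsUnit (c t) := fun t => by
    refine (Amp73.isFrame_smul_iff (htgt t) (c t)).1 ?_
    rw [hc t]
    exact isFrame_tr _ hN _ (he t)
  -- normalised trivialisations
  let e' : ∀ t, Γ((Scheme.Modules.pullback (g t)).obj N, ⊤) := fun t =>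
    (pullback.snd f (v t)).appTop ↑(hcu t).unit⁻¹ • e t
  have he' : ∀ t, LineBundle.IsFrame _ ⊤ (e' t) := fun t =>
    (Amp73.isFrame_smul_iff (he t) _).2 ((Units.isUnit _).map _)
  have hse : ∀ t, QSheaf.tr (hs1 t) N (le_refl ⊤) (e' t) = tgt t := fun t => by
    simp only [e']
    rw [QSheaf.tr_smul, ← hc t, smul_smul]
    have hh : (s t).appLE ⊤ ⊤ le_rfl ((pullback.snd f (v t)).appTop ↑(hcu t).unit⁻¹) = ↑(hcu t).unit⁻¹ := by
      have h1 := Scheme.Hom.comp_appTop (s t) (pullback.snd f (v t))
      rw [hs2 t] at h1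
      rw [show (s t).appLE ⊤ ⊤ le_rfl = (s t).appTop from (Scheme.Hom.app_eq_appLE _).symm]
      exact (ConcreteCategory.congr_hom h1 _).symm
    rw [hh, IsUnit.val_inv_mul, one_smul]
  -- the universal overlap
  have key : ∀ i j (T' : Scheme.{u}) (a : T' ⟶ Q i) (b : T' ⟶ Q j) (h : T' ⟶ P) (ea : a ≫ g i = h)
      (eb : b ≫ g j = h), QSheaf.tr ea N (le_refl ⊤) (e' i) = QSheaf.tr eb N (le_refl ⊤) (e' j) := by
    intro i j T' a b h ea eb
    let p₁ := pullback.fst (v i) (v j)
    let p₂ := pullback.snd (v i) (v j)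
    let w : pullback (v i) (v j) ⟶ T := p₁ ≫ v i
    let PW := pullback f w
    let ai : PW ⟶ Q i := pullback.lift (pullback.fst f w) (pullback.snd f w ≫ p₁) (by
      rw [Category.assoc]; exact pullback.condition)
    let aj : PW ⟶ Q j := pullback.lift (pullback.fst f w) (pullback.snd f w ≫ p₂) (by
      rw [Category.assoc, ← show w = p₂ ≫ v j from pullback.condition]; exact pullback.condition)
    have hai : ai ≫ g i = pullback.fst f w := pullback.lift_fst _ _ _
    have haj : aj ≫ g j = pullback.fst f w := pullback.lift_fst _ _ _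
    have hA : LineBundle.IsFrame _ ⊤ (QSheaf.tr hai N (le_refl ⊤) (e' i)) := isFrame_tr _ hN _ (he' i)
    obtain ⟨d, hd⟩ := (hA ⊤ le_rfl).2 (QSheaf.tr haj N (le_refl ⊤) (e' j))
    simp only [lres_self] at hd
    obtain ⟨d', rfl⟩ := (hbij _ w).2 d
    let sW : pullback (v i) (v j) ⟶ PW := pullback.lift (w ≫ σ) (𝟙 _) (by
      rw [Category.assoc, hσ, Category.comp_id, Category.id_comp])
    have hW1 : sW ≫ pullback.fst f w = w ≫ σ := pullback.lift_fst _ _ _
    have hW2 : sW ≫ pullback.snd f w = 𝟙 _ := pullback.lift_snd _ _ _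
    have hsi : sW ≫ ai = p₁ ≫ s i := by
      refine pullback.hom_ext ?_ ?_
      · rw [Category.assoc, Category.assoc, pullback.lift_fst, hW1, pullback.lift_fst, Category.assoc]
      · rw [Category.assoc, Category.assoc, pullback.lift_snd, pullback.lift_snd, ← Category.assoc, hW2,
          Category.id_comp, Category.comp_id]
    have hsj : sW ≫ aj = p₂ ≫ s j := by
      refine pullback.hom_ext ?_ ?_
      · rw [Category.assoc, Category.assoc, pullback.lift_fst, hW1, pullback.lift_fst,
          show w = p₂ ≫ v j from pullback.condition, Category.assoc]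
      · rw [Category.assoc, Category.assoc, pullback.lift_snd, pullback.lift_snd, ← Category.assoc, hW2,
          Category.id_comp, Category.comp_id]
    -- both restrict to the rigidification
    let R : Γ((Scheme.Modules.pullback (w ≫ σ)).obj N, ⊤) := QSheaf.tr (rfl : w ≫ σ = w ≫ σ) N (le_refl ⊤) eσ
    have restr : ∀ (l : T) (pl : pullback (v i) (v j) ⟶ U l) (al : PW ⟶ Q l) (hal : al ≫ g l = pullback.fst f w)
        (hpl : pl ≫ v l = w) (hsl : sW ≫ al = pl ≫ s l),
        QSheaf.tr hW1 N (le_refl ⊤) (QSheaf.tr hal N (le_refl ⊤) (e' l)) = R := by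
      intro l pl al hal hpl hsl
      have E : (pl ≫ s l) ≫ g l = w ≫ σ := by rw [Category.assoc, hs1, ← Category.assoc, hpl]
      have E' : pl ≫ v l ≫ σ = w ≫ σ := by rw [← Category.assoc, hpl]
      rw [EtAssocSheaf.tr_tr N al hal sW hW1 hsl E (le_refl ⊤) (le_refl ⊤) (le_refl ⊤),
        ← EtAssocSheaf.tr_tr N (s l) (hs1 l) pl E' rfl E (le_refl ⊤) (le_refl ⊤) (le_refl ⊤), hse l]
      exact EtAssocSheaf.tr_tr N (v l) rfl pl E' hpl rfl (le_refl ⊤) (le_refl ⊤) (le_refl ⊤) eσ
    have r1 := restr i p₁ ai hai rfl hsi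
    have r2 := restr j p₂ aj haj pullback.condition.symm hsj
    rw [← hd, QSheaf.tr_smul, r1] at r2
    have hd1 : d' = 1 := by
      have hR : LineBundle.IsFrame _ ⊤ R := isFrame_tr _ hN _ heσ
      have h1 := (hR ⊤ le_rfl).1 (a₁ := sW.appLE ⊤ ⊤ le_rfl ((pullback.snd f w).appTop d')) (a₂ := 1) (by
        simp only [lres_self, one_smul]
        exact r2)
      have h2 := Scheme.Hom.comp_appTop sW (pullback.snd f w)
      rw [hW2] at h2
      rw [show sW.appLE ⊤ ⊤ le_rfl = sW.appTop from (Scheme.Hom.app_eq_appLE _).symm] at h1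
      exact (ConcreteCategory.congr_hom h2 d').trans h1
    have hd2 : QSheaf.tr hai N (le_refl ⊤) (e' i) = QSheaf.tr haj N (le_refl ⊤) (e' j) := by
      rw [← hd, hd1, map_one, one_smul]
    -- the universal property
    have hab : (a ≫ pullback.snd f (v i)) ≫ v i = (b ≫ pullback.snd f (v j)) ≫ v j := by
      rw [Category.assoc, Category.assoc, ← pullback.condition, ← pullback.condition, ← Category.assoc,
        ← Category.assoc, show a ≫ pullback.fst f (v i) = h from ea, show b ≫ pullback.fst f (v j) = h from eb]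
    let k : T' ⟶ PW := pullback.lift h (pullback.lift _ _ hab) (by
      rw [← Category.assoc, pullback.lift_fst, Category.assoc, ← pullback.condition, ← Category.assoc,
        show a ≫ pullback.fst f (v i) = h from ea])
    have hk : k ≫ pullback.fst f w = h := pullback.lift_fst _ _ _
    have hka : k ≫ ai = a := by
      refine pullback.hom_ext ?_ ?_
      · rw [Category.assoc, pullback.lift_fst, hk]; exact ea.symm
      · rw [Category.assoc, pullback.lift_snd, ← Category.assoc, pullback.lift_snd, pullback.lift_fst]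
    have hkb : k ≫ aj = b := by
      refine pullback.hom_ext ?_ ?_
      · rw [Category.assoc, pullback.lift_fst, hk]; exact eb.symm
      · rw [Category.assoc, pullback.lift_snd, ← Category.assoc, pullback.lift_snd, pullback.lift_snd]
    rw [← EtAssocSheaf.tr_tr N ai hai k hk hka ea (le_refl ⊤) (le_refl ⊤) (le_refl ⊤),
      ← EtAssocSheaf.tr_tr N aj haj k hk hkb eb (le_refl ⊤) (le_refl ⊤) (le_refl ⊤), hd2]
  obtain ⟨n, hn, -⟩ := QSheaf.existsUnique_descend g N ⊤ e' key
  have : LineBundle.IsFrame N ⊤ n := by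
    have hv : ZeroScheme.val N (EGA73.unitHom N n) ⊤ = n := AbVar93.val_eq N n
    rw [← hv, Amp73.isFrame_iff_le_genLocus]
    intro p _
    obtain ⟨t, q, rfl⟩ := hsurj p
    have hq : q ∈ CohB1.genLocus _ (Amp73.pullHom (g t) (EGA73.unitHom N n)) := by
      refine (Amp73.isFrame_iff_le_genLocus (U := g t ⁻¹ᵁ ⊤) _).1 ?_ trivial
      rw [Amp73.val_pullHom, hv]
      have h1 := hn t
      rw [QCPull72.unitSec, QC70.res_self] at h1
      rw [show Amp73.pullS (g t) N ⊤ n = e' t from h1]
      exact he' t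
    rw [Amp73.genLocus_pullHom (g t) hN] at hq
    exact hq
  exact Cube73.iso_of_frame this

/-- The fppf-covering version. -/
theorem trivial_of_rigidified_precoverage (σ : T ⟶ P) (hσ : σ ≫ f = 𝟙 T)
    (hbij : ∀ (W : Scheme.{u}) (w : W ⟶ T), Function.Bijective (pullback.snd f w).appTop)
    (N : P.Modules) (hN : PicF.IsInvertible N)
    (hσN : Nonempty ((Scheme.Modules.pullback σ).obj N ≅ Coh.structureModule T))
    {R : Presieve T} (hR : R ∈ Scheme.fppfPrecoverage T)
    (htriv : ∀ (U : Scheme.{u}) (v : U ⟶ T), R v →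
      Nonempty ((Scheme.Modules.pullback (pullback.fst f v)).obj N ≅ Coh.structureModule (pullback f v))) :
    Nonempty (N ≅ Coh.structureModule P) := by
  refine trivial_of_rigidified_fppf f σ hσ hbij N hN hσN fun t => ?_
  obtain ⟨U, v, hv, ht⟩ : ∃ (U : Scheme.{u}) (v : U ⟶ T), R v ∧ t ∈ Set.range v.base := by
    have h := hR.1
    rw [Scheme.jointlySurjectivePrecoverage, Presieve.mem_comap_jointlySurjectivePrecoverage_iff] at h
    obtain ⟨Y, g, hg, x, hx⟩ := h t
    exact ⟨Y, g, hg, x, hx⟩
  have hp := hR.2 hv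
  exact ⟨U, v, hp.1, hp.2, ht, htriv U v hv⟩

end Groth.Agent.SymPhi99
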