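import Groth.Agent.SymPhi99.Classes
import Groth.Agent.SymPhi99.Desc
import Groth.Agent.An92.Ample.Inverse
import Groth.Agent.AbSch7.PushO
import Groth.Agent.AbSch7.SmoothFib

/-!
Rigidified classes which agree fppf-locally are equal; the case of abelian schemes.
-/

set_option autoImplicit false
set_option backward.isDefEq.respectTransparency.types false
set_option linter.style.haveILetI false

noncomputable section

universe u

open CategoryTheory CategoryTheory.Limits MonoidalCategory CartesianMonoidalCategory MonObj AlgebraicGeometry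
open Groth.Agent.FGA29 Groth.Agent.H98PicRel

namespace Groth.Agent.SymPhi99

/-- Invertible classes have inverses. -/
theorem exists_inv_cl {X : Scheme.{u}} {c : PicF.Cl X} (hc : PicF.IsInvertibleCl c) :
    ∃ d, PicF.IsInvertibleCl d ∧ c * d = 1 := by
  obtain ⟨L, rfl, hL⟩ := hc
  obtain ⟨M, hM, e⟩ := An92.InvMod.exists_inverse hL
  exact ⟨PicF.cl M, ⟨M, rfl, hM⟩, (_root_.mul_comm _ _).trans (cl_iso e)⟩

section

variable {X S : Scheme.{u}} (f : X ⟶ S) (σ : S ⟶ X) (hσ : σ ≫ f = 𝟙 S)

/-- Rigidified classes which agree on an fppf cover of the base are equal. -/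
theorem eq_of_locally (T : Over S)
    (hbij : ∀ (W : Scheme.{u}) (w : W ⟶ T.left), Function.Bijective (pullback.snd (PicF.XTproj f T) w).appTop)
    {c c' : PicF.Cl (PicF.XT f T)} (hc : PicF.IsInvertibleCl c) (hc' : PicF.IsInvertibleCl c')
    (he : PicF.pullCl (PicF.secT f σ hσ T) c = PicF.pullCl (PicF.secT f σ hσ T) c')
    {R : Presieve T.left} (hR : R ∈ Scheme.fppfPrecoverage T.left)
    (hloc : ∀ ⦃U : Scheme.{u}⦄ (u : U ⟶ T.left), R u →
      PicF.pullCl (PicF.XTmap f (AbDual.ovrHom T u)) c = PicF.pullCl (PicF.XTmap f (AbDual.ovrHom T u)) c') :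
    c = c' := by
  obtain ⟨d, hd, hinv⟩ := exists_inv_cl hc'
  obtain ⟨N, hN, hNi⟩ := isInvertibleCl_mul hc hd
  have hσN : PicF.pullCl (PicF.secT f σ hσ T) (PicF.cl N) = 1 := by
    rw [hN, pullCl_mul _ hc hd, he, ← pullCl_mul _ hc' hd, hinv, pullCl_one]
  have h1 : PicF.cl N = 1 := by
    refine cl_iso (trivial_of_rigidified_precoverage (PicF.XTproj f T) (PicF.secT f σ hσ T)
      (pullback.lift_snd _ _ _) hbij N hNi (FGA29.nonempty_iso_of_cl hσN) hR fun U v hv =>
        FGA29.nonempty_iso_of_cl ?_)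
    let e : pullback (PicF.XTproj f T) v ⟶ PicF.XT f (AbDual.ovr T v) :=
      (pullbackLeftPullbackSndIso f T.hom v).hom
    have he : e ≫ PicF.XTmap f (AbDual.ovrHom T v) = pullback.fst (PicF.XTproj f T) v := by
      refine pullback.hom_ext ?_ ?_
      · rw [Category.assoc, XTmap_fst]
        exact pullbackLeftPullbackSndIso_hom_fst _ _ _
      · rw [Category.assoc, XTmap_snd]
        exact ((Category.assoc _ _ _).symm.trans
          (congrArg (· ≫ v) (pullbackLeftPullbackSndIso_hom_snd _ _ _))).trans pullback.condition.symm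
    show PicF.pullCl _ (PicF.cl N) = 1
    rw [← he, pullCl_comp, hN, pullCl_mul _ hc hd, hloc v hv, ← pullCl_mul _ hc' hd, hinv, pullCl_one, pullCl_one]
  calc c = c * (d * c') := by rw [_root_.mul_comm d, hinv, _root_.mul_one]
    _ = PicF.cl N * c' := by rw [hN, _root_.mul_assoc]
    _ = c' := by rw [h1, _root_.one_mul]

end

/-- Classes algebraically equivalent to zero on geometric fibres pull back along morphisms over the base. -/
theorem isPicZeroCl_bcMap {S : Scheme.{u}} {A B : Over S} (g : A ⟶ B) (T : Over S)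
    {c : PicF.Cl (PicF.XT B.hom T)} (h : AbDual.IsPicZeroCl B.hom T c) :
    AbDual.IsPicZeroCl A.hom T (PicF.pullCl (AbDual.bcMap g T) c) := by
  obtain ⟨L, rfl, hL, hz⟩ := h
  refine ⟨_, rfl, Amp73.isInvertible_pullback _ hL, fun t Ω _ _ σ hσ => ?_⟩
  let h : pullback (PicF.XTproj A.hom T) σ ⟶ pullback (PicF.XTproj B.hom T) σ :=
    pullback.lift (pullback.fst _ σ ≫ AbDual.bcMap g T) (pullback.snd _ σ) (by
      rw [Category.assoc, show AbDual.bcMap g T ≫ PicF.XTproj B.hom T = PicF.XTproj A.hom T from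
        (pullback.lift_snd _ _ _).trans (Category.comp_id _), pullback.condition])
  refine isAlgEquivZero_pullback Ω (pullback.snd (PicF.XTproj B.hom T) σ) _ h (pullback.lift_snd _ _ _)
    ⟨?_⟩ (hz t Ω σ hσ)
  exact (Scheme.Modules.pullbackComp _ _).app L ≪≫ (Scheme.Modules.pullbackCongr (pullback.lift_fst _ _ _)).app L ≪≫
    ((Scheme.Modules.pullbackComp _ _).app L).symm

/-- On an abelian scheme, only functions from the base are functions, universally. -/
theorem appTop_bijective_abScheme {S : Scheme.{u}} (A : Over S) [GrpObj A] [IsProper A.hom] [Smooth A.hom]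
    [GeometricallyConnected A.hom] (T : Over S) (W : Scheme.{u}) (w : W ⟶ T.left) :
    Function.Bijective (pullback.snd (PicF.XTproj A.hom T) w).appTop := by
  let f' := pullback.snd (PicF.XTproj A.hom T) w
  haveI : IsProper (PicF.XTproj A.hom T) := MorphismProperty.pullback_snd (P := @IsProper) _ _ inferInstance
  haveI : Smooth (PicF.XTproj A.hom T) := MorphismProperty.pullback_snd (P := @Smooth) _ _ inferInstance
  haveI : GeometricallyConnected (PicF.XTproj A.hom T) :=
    MorphismProperty.pullback_snd (P := @GeometricallyConnected) _ _ inferInstance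
  haveI : IsProper f' := MorphismProperty.pullback_snd (P := @IsProper) _ _ inferInstance
  haveI : Smooth f' := MorphismProperty.pullback_snd (P := @Smooth) _ _ inferInstance
  haveI : GeometricallyConnected f' := MorphismProperty.pullback_snd (P := @GeometricallyConnected) _ _ inferInstance
  haveI : GeometricallyReduced f' := AbSch7.geometricallyReduced_of_smooth f'
  let s : W ⟶ pullback (PicF.XTproj A.hom T) w :=
    pullback.lift (w ≫ PicF.secT A.hom η[A].left (Over.w η[A]) T) (𝟙 W) (by
      rw [Category.assoc, show PicF.secT A.hom η[A].left (Over.w η[A]) T ≫ PicF.XTproj A.hom T = 𝟙 T.left from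
        pullback.lift_snd _ _ _, Category.comp_id, Category.id_comp])
  exact AbSch7.app_bijective_general f' s (pullback.lift_snd _ _ _) ⊤

/-- The bitranspose square of biduality morphisms. -/
theorem comp_toBidual {S : Scheme.{u}} {A At Att A' A't A'tt : Over S}
    [GrpObj A] [GrpObj At] [GrpObj A'] [IsProper A'.hom] [Smooth A'.hom] [GeometricallyConnected A'.hom] [GrpObj A't]
    (φA : ∀ T : Over S, PicF.Cl (PicF.XT A.hom T) → (T ⟶ At))
    (φAt : ∀ T : Over S, PicF.Cl (PicF.XT At.hom T) → (T ⟶ Att))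
    (φA' : ∀ T : Over S, PicF.Cl (PicF.XT A'.hom T) → (T ⟶ A't))
    (φA't : ∀ T : Over S, PicF.Cl (PicF.XT A't.hom T) → (T ⟶ A'tt))
    (hAt : AbDual.IsRelPicZeroK Scheme.fppfPrecoverage At.hom Att φAt)
    (hA' : AbDual.IsRelPicZeroK Scheme.fppfPrecoverage A'.hom A't φA')
    (ξ : PicF.Cl (PicF.XT A.hom At)) (hξ : AbDual.IsPoincareCl A At φA ξ)
    (hξs : AbDual.IsPicZeroCl At.hom A (PicF.pullCl (pullbackSymmetry At.hom A.hom).hom ξ))
    (ξ' : PicF.Cl (PicF.XT A'.hom A't)) (hξ' : AbDual.IsPoincareCl A' A't φA' ξ')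
    (hξ's : AbDual.IsPicZeroCl A't.hom A' (PicF.pullCl (pullbackSymmetry A't.hom A'.hom).hom ξ'))
    (f : A' ⟶ A) [IsMonHom f] (ft : At ⟶ A't) (hft : AbDual.IsTranspose f φA' φA ft)
    (ftt : A'tt ⟶ Att) (hftt : AbDual.IsTranspose ft φAt φA't ftt) :
    f ≫ φAt A (PicF.pullCl (pullbackSymmetry At.hom A.hom).hom ξ) =
      φA't A' (PicF.pullCl (pullbackSymmetry A't.hom A'.hom).hom ξ') ≫ ftt := by
  obtain ⟨hξ0, hξ1, hξe⟩ := hξ
  obtain ⟨hξ'0, hξ'1, hξ'e⟩ := hξ'
  let z₁ := PicF.pullCl (AbDual.bcMap f At) ξ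
  let z₂ := PicF.pullCl (PicF.XTmap A'.hom ft) ξ'
  have h₁ : AbDual.IsPicZeroCl A'.hom At z₁ := isPicZeroCl_bcMap f At hξ0
  have h₂ : AbDual.IsPicZeroCl A'.hom At z₂ := isPicZeroCl_pullCl A'.hom ft hξ'0
  have hφ : φA' At z₁ = φA' At z₂ := by
    rw [hft At ξ hξ0, hξ1, Category.id_comp, hA'.natural _ _ ft ξ' hξ'0, hξ'1, Category.comp_id]
  obtain ⟨R, hR, hloc⟩ := hA'.locallyInjective At z₁ z₂ h₁ h₂ hφ
  have e₁ : PicF.secT A'.hom η[A'].left (Over.w η[A']) At ≫ AbDual.bcMap f At =
      PicF.secT A.hom η[A].left (Over.w η[A]) At := by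
    refine pullback.hom_ext ?_ ?_
    · simp only [PicF.secT, AbDual.bcMap, Category.assoc, pullback.lift_fst, pullback.lift_fst_assoc]
      rw [← Over.comp_left, IsMonHom.one_hom f]
    · simp only [PicF.secT, AbDual.bcMap, Category.assoc, pullback.lift_snd, pullback.lift_snd_assoc,
        Category.id_comp, Category.comp_id]
  have e₂ : PicF.secT A'.hom η[A'].left (Over.w η[A']) At ≫ PicF.XTmap A'.hom ft =
      ft.left ≫ PicF.secT A'.hom η[A'].left (Over.w η[A']) A't := by
    refine pullback.hom_ext ?_ ?_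
    · simp only [PicF.secT, Category.assoc, XTmap_fst, pullback.lift_fst]
      rw [← Category.assoc, Over.w ft]
    · simp only [PicF.secT, Category.assoc, XTmap_snd, pullback.lift_snd, pullback.lift_snd_assoc,
        Category.id_comp, Category.comp_id]
  have hz : z₁ = z₂ := by
    refine eq_of_locally A'.hom η[A'].left (Over.w η[A']) At (appTop_bijective_abScheme A' At)
      (isInvertibleCl_of_picZero _ h₁) (isInvertibleCl_of_picZero _ h₂) ?_ hR hloc
    rw [← pullCl_comp, ← pullCl_comp, e₁, e₂, pullCl_comp, hξe, hξ'e]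
    exact (pullCl_one _).symm
  have s₁ : PicF.XTmap At.hom f ≫ (pullbackSymmetry At.hom A.hom).hom =
      (pullbackSymmetry At.hom A'.hom).hom ≫ AbDual.bcMap f At := by
    refine pullback.hom_ext ?_ ?_
    · simp only [AbDual.bcMap, Category.assoc, pullbackSymmetry_hom_comp_fst, XTmap_snd, pullback.lift_fst,
        pullbackSymmetry_hom_comp_fst_assoc]
    · simp only [AbDual.bcMap, Category.assoc, pullbackSymmetry_hom_comp_snd, XTmap_fst, pullback.lift_snd,
        Category.comp_id]
  have s₂ : AbDual.bcMap ft A' ≫ (pullbackSymmetry A't.hom A'.hom).hom =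
      (pullbackSymmetry At.hom A'.hom).hom ≫ PicF.XTmap A'.hom ft := by
    refine pullback.hom_ext ?_ ?_
    · simp only [AbDual.bcMap, Category.assoc, pullbackSymmetry_hom_comp_fst, XTmap_fst, pullback.lift_snd,
        Category.comp_id]
    · simp only [AbDual.bcMap, Category.assoc, pullbackSymmetry_hom_comp_snd, XTmap_snd, pullback.lift_fst,
        pullbackSymmetry_hom_comp_snd_assoc]
  rw [← hAt.natural _ _ f _ hξs, ← hftt A' _ hξ's]
  congr 1
  rw [← pullCl_comp, ← pullCl_comp, s₁, s₂, pullCl_comp, pullCl_comp]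
  exact congrArg _ hz

end Groth.Agent.SymPhi99
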