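import Groth.Agent.Cube7.Seesaw
import Groth.Agent.Cube73.Glue
import Groth.Agent.FBase64.Geometric
import Mathlib.AlgebraicGeometry.Sites.Fpqc

/-!
An invertible module rigidified along a section which becomes trivial locally on the base for a jointly
surjective family is trivial.
-/

set_option autoImplicit false
set_option backward.isDefEq.respectTransparency.types false
set_option linter.style.haveILetI false

noncomputable section

universe u

open CategoryTheory CategoryTheory.Limits AlgebraicGeometry TopologicalSpace

namespace Groth.Agent.SymPhi99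

variable {P T : Scheme.{u}} (f : P ⟶ T) [IsProper f] [Flat f] [GeometricallyIntegral f]

/-- Triviality on a fibre from triviality after a base change through its point. -/
theorem trivial_fiber_of_bc (N : P.Modules) (hN : PicF.IsInvertible N) {U : Scheme.{u}} (v : U ⟶ T)
    (h : Nonempty ((Scheme.Modules.pullback (pullback.fst f v)).obj N ≅ Coh.structureModule (pullback f v)))
    (x : U) :
    Nonempty ((Scheme.Modules.pullback (f.fiberι (v x))).obj N ≅ Coh.structureModule (f.fiber (v x))) := by
  obtain ⟨e⟩ := h
  let ρ := v.residueFieldMap x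
  letI : Algebra (T.residueField (v x)) (U.residueField x) := ρ.hom.toAlgebra
  let p : f.fiber (v x) ⟶ Spec (T.residueField (v x)) := f.fiberToSpecResidueField (v x)
  haveI : IsProper p := MorphismProperty.pullback_snd (P := @IsProper) _ _ inferInstance
  haveI : GeometricallyIntegral p := MorphismProperty.pullback_snd (P := @GeometricallyIntegral) _ _ inferInstance
  refine AbVar93.trivial_of_trivial_baseChange (T.residueField (v x)) (f.fiber (v x)) p _
    (Amp73.isInvertible_pullback _ hN) (U.residueField x) ⟨?_⟩
  let g : Spec (CommRingCat.of (U.residueField x)) ⟶ Spec (T.residueField (v x)) :=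
    Spec.map (CommRingCat.ofHom (algebraMap (T.residueField (v x)) (U.residueField x)))
  have hg : g ≫ T.fromSpecResidueField (v x) = U.fromSpecResidueField x ≫ v :=
    v.SpecMap_residueFieldMap_fromSpecResidueField x
  let l : pullback p g ⟶ pullback f v :=
    pullback.lift (pullback.fst p g ≫ f.fiberι (v x)) (pullback.snd p g ≫ U.fromSpecResidueField x) (by
      rw [Category.assoc, Category.assoc, ← hg]
      exact ((congrArg (pullback.fst p g ≫ ·) pullback.condition).trans (Category.assoc _ _ _).symm).trans
        ((congrArg (· ≫ T.fromSpecResidueField (v x)) pullback.condition).trans (Category.assoc _ _ _)))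
  exact (Scheme.Modules.pullbackComp _ _).app N ≪≫
    (Scheme.Modules.pullbackCongr (pullback.lift_fst _ _ _).symm).app N ≪≫
    ((Scheme.Modules.pullbackComp l (pullback.fst f v)).app N).symm ≪≫
    (Scheme.Modules.pullback l).mapIso e ≪≫ PicLoc.pullbackStructureIso l

/-- An invertible module trivial along a section, whose base changes along a jointly surjective family are
trivial, is trivial (reduced locally Noetherian base). -/
theorem trivial_of_rigidified [IsLocallyNoetherian T] [IsReduced T] (σ : T ⟶ P) (hσ : σ ≫ f = 𝟙 T)
    (N : P.Modules) (hN : PicF.IsInvertible N)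
    (hσN : Nonempty ((Scheme.Modules.pullback σ).obj N ≅ Coh.structureModule T))
    (hcov : ∀ t : T, ∃ (U : Scheme.{u}) (v : U ⟶ T), t ∈ Set.range v.base ∧
      Nonempty ((Scheme.Modules.pullback (pullback.fst f v)).obj N ≅ Coh.structureModule (pullback f v))) :
    Nonempty (N ≅ Coh.structureModule P) := by
  haveI := FBase64.geometricallyConnected_of_geometricallyIrreducible f
  have h0 : AbSch7.H0Fib f := AbSch7.H0Fib.of_geometrically f
  have htriv : ∀ t : T, Nonempty ((Scheme.Modules.pullback (f.fiberι t)).obj N ≅ Coh.structureModule (f.fiber t)) := by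
    intro t
    obtain ⟨U, v, ⟨x, rfl⟩, h⟩ := hcov t
    exact trivial_fiber_of_bc f N hN v h x
  exact Cube73.trivial_of_local f hN (AbSch7.app_bijective f h0) σ hσ hσN
    (Cube7.exists_nhd_frame f h0 N hN htriv)

/-- The members of an fppf covering family cover. -/
theorem exists_mem_range {T : Scheme.{u}} {R : Presieve T} (hR : R ∈ Scheme.fppfPrecoverage T) (t : T) :
    ∃ (U : Scheme.{u}) (v : U ⟶ T), R v ∧ t ∈ Set.range v.base := by
  have h := hR.1
  rw [Scheme.jointlySurjectivePrecoverage, Presieve.mem_comap_jointlySurjectivePrecoverage_iff] at h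
  obtain ⟨Y, g, hg, x, hx⟩ := h t
  exact ⟨Y, g, hg, x, hx⟩

end Groth.Agent.SymPhi99
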