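import Groth.Agent.SymPhi99.Classes
import Groth.Agent.SymPhi99.Triv
import Groth.Agent.Theta99.KL
import Groth.Agent.Inv57.OfTensor

/-!
The homomorphism attached to an invertible module on an abelian variety is symmetric.
-/

set_option autoImplicit false
set_option backward.isDefEq.respectTransparency.types false
set_option linter.style.haveILetI false

noncomputable section

universe u

open CategoryTheory CategoryTheory.Limits MonoidalCategory CartesianMonoidalCategory MonObj GrpObj AlgebraicGeometry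
open Groth.Agent.FGA29 Groth.Agent.H98PicRel

namespace Groth.Agent.SymPhi99

variable {K : Type u} [Field K] {A At T : Over (Spec (CommRingCat.of K))} [GrpObj A]
  [IsProper A.hom] [GeometricallyIntegral A.hom]

/-- The unit section over `T`. -/
abbrev eT (A T : Over (Spec (CommRingCat.of K))) [GrpObj A] : T.left ⟶ PicF.XT A.hom T :=
  PicF.secT A.hom η[A].left (Over.w η[A]) T

/-- Two rigidified Pic⁰ classes with the same point of the dual are equal. -/
theorem eq_of_phi_eq [IsProper T.hom] [IsIntegral T.left]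
    {φA : ∀ T : Over (Spec (CommRingCat.of K)), PicF.Cl (PicF.XT A.hom T) → (T ⟶ At)}
    (hAt : AbDual.IsRelPicZeroK Scheme.fppfPrecoverage A.hom At φA)
    {c c' d : PicF.Cl (PicF.XT A.hom T)} (hc : AbDual.IsPicZeroCl A.hom T c)
    (hc' : AbDual.IsPicZeroCl A.hom T c') (hd : PicF.IsInvertibleCl d) (hinv : c' * d = 1)
    (hec : PicF.pullCl (eT A T) c = 1) (hec' : PicF.pullCl (eT A T) c' = 1)
    (h : φA T c = φA T c') : c = c' := by
  have ic := isInvertibleCl_of_picZero A.hom hc
  have ic' := isInvertibleCl_of_picZero A.hom hc'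
  obtain ⟨R, hR, hloc⟩ := hAt.locallyInjective T c c' hc hc' h
  haveI : IsLocallyNoetherian T.left := LocallyOfFiniteType.isLocallyNoetherian T.hom
  haveI : IsProper (PicF.XTproj A.hom T) := MorphismProperty.pullback_snd (P := @IsProper) _ _ inferInstance
  haveI : GeometricallyIntegral (PicF.XTproj A.hom T) :=
    MorphismProperty.pullback_snd (P := @GeometricallyIntegral) _ _ inferInstance
  haveI : Flat (PicF.XTproj A.hom T) := inferInstanceAs (Flat (pullback.snd A.hom T.hom))
  obtain ⟨N, hN, hNi⟩ := isInvertibleCl_mul ic hd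
  have hσ : PicF.pullCl (eT A T) (PicF.cl N) = 1 := by
    rw [hN, pullCl_mul _ ic hd, hec.trans hec'.symm, ← pullCl_mul _ ic' hd, hinv, pullCl_one]
  have hmul : PicF.cl N = 1 := by
    refine cl_iso (trivial_of_rigidified (PicF.XTproj A.hom T) (eT A T) (pullback.lift_snd _ _ _) N hNi
      (FGA29.nonempty_iso_of_cl hσ) fun t => ?_)
    obtain ⟨U, v, hv, ht⟩ := exists_mem_range hR t
    refine ⟨U, v, ht, FGA29.nonempty_iso_of_cl ?_⟩
    let e : pullback (PicF.XTproj A.hom T) v ⟶ PicF.XT A.hom (AbDual.ovr T v) :=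
      (pullbackLeftPullbackSndIso A.hom T.hom v).hom
    have he : e ≫ PicF.XTmap A.hom (AbDual.ovrHom T v) = pullback.fst (PicF.XTproj A.hom T) v := by
      refine pullback.hom_ext ?_ ?_
      · rw [Category.assoc, XTmap_fst]
        exact pullbackLeftPullbackSndIso_hom_fst _ _ _
      · rw [Category.assoc, XTmap_snd]
        show e ≫ pullback.snd A.hom (v ≫ T.hom) ≫ v = _
        rw [show e ≫ pullback.snd A.hom (v ≫ T.hom) ≫ v =
          pullback.snd (PicF.XTproj A.hom T) v ≫ v from
            (Category.assoc _ _ _).symm.trans (congrArg (· ≫ v) (pullbackLeftPullbackSndIso_hom_snd _ _ _))]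
        exact pullback.condition.symm
    show PicF.pullCl _ (PicF.cl N) = 1
    rw [← he, pullCl_comp, hN, pullCl_mul _ ic hd, hloc v hv, ← pullCl_mul _ ic' hd, hinv, pullCl_one, pullCl_one]
  calc c = c * (d * c') := by rw [_root_.mul_comm d, hinv, _root_.mul_one]
    _ = PicF.cl N * c' := by rw [hN, _root_.mul_assoc]
    _ = c' := by rw [hmul, _root_.one_mul]

omit [GrpObj A] [IsProper A.hom] [GeometricallyIntegral A.hom] in
theorem left_comp {B C D : Over (Spec (CommRingCat.of K))} {f : B ⟶ C} {g : C ⟶ D} {h : B ⟶ D}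
    (e : f ≫ g = h) : f.left ≫ g.left = h.left := by rw [← Over.comp_left, e]

variable [IsCommMonObj A]

/-- The symmetry of the homomorphism attached to an invertible module. -/
theorem phi_symm {Att : Over (Spec (CommRingCat.of K))} [GrpObj At]
    (φA : ∀ T : Over (Spec (CommRingCat.of K)), PicF.Cl (PicF.XT A.hom T) → (T ⟶ At))
    (hAt : AbDual.IsRelPicZeroK Scheme.fppfPrecoverage A.hom At φA)
    (φAt : ∀ T : Over (Spec (CommRingCat.of K)), PicF.Cl (PicF.XT At.hom T) → (T ⟶ Att))
    (ξ : PicF.Cl (PicF.XT A.hom At)) (hξ : AbDual.IsPoincareCl A At φA ξ)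
    (hξ' : AbDual.IsPicZeroCl At.hom A (PicF.pullCl (pullbackSymmetry At.hom A.hom).hom ξ))
    (L Linv : A.left.Modules) (hL : PicF.IsInvertible L)
    (hLinv : Nonempty (CohB1.tensorMod L Linv ≅ Coh.structureModule A.left))
    (Λ : (PicF.XT A.hom A).Modules)
    (hΛ : Nonempty (Λ ≅ CohB1.tensorMod (CohB1.tensorMod ((Scheme.Modules.pullback (μ[A]).left).obj L)
      ((Scheme.Modules.pullback (fst A A).left).obj Linv)) ((Scheme.Modules.pullback (snd A A).left).obj Linv)))
    (hΛ0 : AbDual.IsPicZeroCl A.hom A (PicF.cl Λ)) (tl : Att ⟶ At)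
    (htl : AbDual.IsTranspose (φA A (PicF.cl Λ)) φA φAt tl) :
    φA A (PicF.cl Λ) = φAt A (PicF.pullCl (pullbackSymmetry At.hom A.hom).hom ξ) ≫ tl := by
  obtain ⟨hξ0, hξ1, hξe⟩ := hξ
  obtain ⟨eL⟩ := hLinv
  set a := PicF.cl L with ha
  set b := PicF.cl Linv with hb
  have ia : PicF.IsInvertibleCl a := ⟨L, rfl, hL⟩
  have hLinv' : PicF.IsInvertible Linv := Inv57.isInvertible_of_tensorMod_iso (EGA73.tensComm Linv L ≪≫ eL)
  have ib : PicF.IsInvertibleCl b := ⟨Linv, rfl, hLinv'⟩
  have hab : a * b = 1 := cl_iso ⟨eL⟩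
  haveI : IsIntegral A.left := GeometricallyIntegral.isIntegral_of_subsingleton A.hom
  -- the Mumford class, written on the product
  let m : PicF.XT A.hom A ⟶ A.left := (μ[A]).left
  let p : PicF.XT A.hom A ⟶ A.left := (fst A A).left
  let q : PicF.XT A.hom A ⟶ A.left := (snd A A).left
  have hΛc : PicF.cl Λ = PicF.pullCl m a * PicF.pullCl p b * PicF.pullCl q b := cl_iso hΛ
  have i1 := isInvertibleCl_pullCl m ia
  have i2 := isInvertibleCl_pullCl p ib
  have i3 := isInvertibleCl_pullCl q ib
  let d := PicF.pullCl m b * PicF.pullCl p a * PicF.pullCl q a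
  have id' : PicF.IsInvertibleCl d := isInvertibleCl_mul
    (isInvertibleCl_mul (isInvertibleCl_pullCl m ib) (isInvertibleCl_pullCl p ia)) (isInvertibleCl_pullCl q ia)
  have hinv : PicF.cl Λ * d = 1 := by
    rw [hΛc, _root_.mul_mul_mul_comm, _root_.mul_mul_mul_comm _ _ (PicF.pullCl m b), ← pullCl_mul m ia ib,
      ← pullCl_mul p ib ia, ← pullCl_mul q ib ia, _root_.mul_comm b a, hab, pullCl_one, pullCl_one, pullCl_one,
      _root_.mul_one, _root_.mul_one]
  -- rigidification
  let s : A ⟶ A ⊗ A := lift 1 (𝟙 A)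
  have hs : eT A A = s.left := by
    refine pullback.hom_ext ?_ ?_
    · refine (pullback.lift_fst _ _ _).trans ?_
      show (toUnit A ≫ η[A]).left = s.left ≫ (fst A A).left
      rw [← Over.comp_left, lift_fst, Hom.one_def]
    · refine (pullback.lift_snd _ _ _).trans ?_
      show (𝟙 A : A ⟶ A).left = s.left ≫ (snd A A).left
      rw [← Over.comp_left, lift_snd]
  have hΛe : PicF.pullCl (eT A A) (PicF.cl Λ) = 1 := by
    rw [hs, hΛc, pullCl_mul _ (isInvertibleCl_mul i1 i2) i3, pullCl_mul _ i1 i2, ← pullCl_comp, ← pullCl_comp,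
      ← pullCl_comp]
    rw [show s.left ≫ m = 𝟙 A.left from left_comp ((show s ≫ μ[A] = 𝟙 A from by
        rw [← Hom.mul_def, _root_.one_mul])),
      show s.left ≫ p = (1 : A ⟶ A).left from left_comp ((lift_fst _ _)),
      show s.left ≫ q = 𝟙 A.left from left_comp ((lift_snd _ _)),
      show PicF.pullCl (1 : A ⟶ A).left b = 1 from cl_iso (Theta99.pull_one_trivial hLinv'),
      pullCl_id, pullCl_id, _root_.mul_one, hab]
  -- symmetry
  let sy : PicF.XT A.hom A ⟶ PicF.XT A.hom A := (pullbackSymmetry A.hom A.hom).hom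
  have hsy : sy = (β_ A A).hom.left := by
    refine pullback.hom_ext ?_ ?_
    · refine (pullbackSymmetry_hom_comp_fst _ _).trans ?_
      show (snd A A).left = (β_ A A).hom.left ≫ (fst A A).left
      rw [← Over.comp_left, braiding_hom_fst]
    · refine (pullbackSymmetry_hom_comp_snd _ _).trans ?_
      show (fst A A).left = (β_ A A).hom.left ≫ (snd A A).left
      rw [← Over.comp_left, braiding_hom_snd]
  have hΛs : PicF.pullCl sy (PicF.cl Λ) = PicF.cl Λ := by
    rw [hsy, hΛc, pullCl_mul _ (isInvertibleCl_mul i1 i2) i3, pullCl_mul _ i1 i2, ← pullCl_comp, ← pullCl_comp,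
      ← pullCl_comp]
    rw [show (β_ A A).hom.left ≫ m = m from left_comp ((IsCommMonObj.mul_comm A)),
      show (β_ A A).hom.left ≫ p = q from left_comp ((braiding_hom_fst _ _)),
      show (β_ A A).hom.left ≫ q = p from left_comp ((braiding_hom_snd _ _))]
    exact mul_right_comm _ _ _
  set φL := φA A (PicF.cl Λ) with hφL
  -- the class of the Poincaré class along `φL`
  have hx1 : PicF.pullCl (PicF.XTmap A.hom φL) ξ = PicF.cl Λ := by
    refine eq_of_phi_eq hAt (isPicZeroCl_pullCl A.hom φL hξ0) hΛ0 id' hinv ?_ hΛe ?_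
    · have h : eT A A ≫ PicF.XTmap A.hom φL = φL.left ≫ eT A At := by
        refine pullback.hom_ext ?_ ?_
        · rw [Category.assoc, XTmap_fst, Category.assoc]
          exact (pullback.lift_fst _ _ _).trans (((congrArg (· ≫ η[A].left) (Over.w φL)).symm.trans
            (Category.assoc _ _ _)).trans (congrArg (φL.left ≫ ·) (pullback.lift_fst _ _ _).symm))
        · rw [Category.assoc, XTmap_snd, Category.assoc, ← Category.assoc,
            show eT A A ≫ pullback.snd A.hom A.hom = 𝟙 A.left from pullback.lift_snd _ _ _, Category.id_comp,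
            show eT A At ≫ pullback.snd A.hom At.hom = 𝟙 At.left from pullback.lift_snd _ _ _, Category.comp_id]
      rw [← pullCl_comp, h, pullCl_comp, hξe]
      exact pullCl_one _
    · rw [hAt.natural _ _ φL ξ hξ0, hξ1, Category.comp_id]
  have hy : PicF.pullCl (AbDual.bcMap φL A) (PicF.pullCl (pullbackSymmetry At.hom A.hom).hom ξ) = PicF.cl Λ := by
    have h : AbDual.bcMap φL A ≫ (pullbackSymmetry At.hom A.hom).hom = sy ≫ PicF.XTmap A.hom φL := by
      refine pullback.hom_ext ?_ ?_
      · rw [Category.assoc, Category.assoc, XTmap_fst, pullbackSymmetry_hom_comp_fst,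
          show sy ≫ pullback.fst A.hom A.hom = pullback.snd A.hom A.hom from pullbackSymmetry_hom_comp_fst _ _]
        exact (pullback.lift_snd _ _ _).trans (Category.comp_id _)
      · rw [Category.assoc, Category.assoc, XTmap_snd, pullbackSymmetry_hom_comp_snd, ← Category.assoc,
          show sy ≫ pullback.snd A.hom A.hom = pullback.fst A.hom A.hom from pullbackSymmetry_hom_comp_snd _ _]
        exact pullback.lift_fst _ _ _
    rw [← pullCl_comp, h, pullCl_comp, hx1, hΛs]
  have := htl A _ hξ'
  rw [hy] at this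
  exact this

end Groth.Agent.SymPhi99
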